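import Groth.Agent.W7Slope.H1Quot
import Groth.Agent.W7Slope.EndAlg
import Groth.Agent.W7Slope.Twist
import Groth.Agent.CurveOmega.Closed
import Groth.Agent.VBTwo.Basic

/-!
# Sections of line bundles with one-dimensional `H⁰`
-/

set_option autoImplicit false
set_option linter.style.haveILetI false
set_option linter.unusedSectionVars false
set_option backward.isDefEq.respectTransparency false
set_option backward.isDefEq.respectTransparency.types false

universe u

open CategoryTheory CategoryTheory.Limits AlgebraicGeometry TopologicalSpace Opposite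
open Groth.Agent.CurveRR Groth.Agent.W7Slope
open Groth.Agent.CohFinite (tmap tmap_comp tmap_zero)
open TMul (homOf val_homOf)
open Groth.Agent.CohFinite (finite_proper)
open Groth.Agent.QC (res_self)

noncomputable section

namespace Groth.Agent.Higgs

theorem scal_natural {X : Scheme.{u}} {M N : X.Modules} (f : M ⟶ N) (r : Γ(X, ⊤)) :
    scal M r ≫ f = f ≫ scal N r :=
  hom_ext' fun U m => TMul.app_smul f (Coh.resTop X (op U) r) m

/-- Tensoring by an invertible module is faithful. -/
theorem tmap_injective {X : Scheme.{u}} {M N L : X.Modules} (hL : PicF.IsInvertible L) {f g : M ⟶ N}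
    (h : tmap f L = tmap g L) : f = g := by
  obtain ⟨L', -, ⟨e⟩⟩ := W7Hull.exists_tensor_inverse hL
  rw [← cancel_epi (untw e M).hom, ← untw_natural e f, ← untw_natural e g, h]

variable {k : Type u} [Field k] {X : Scheme.{u}} [X.Over (Spec (CommRingCat.of k))]
  [IsProper (X ↘ Spec (CommRingCat.of k))] [IsIntegral X]

attribute [local instance] CurveRR.secMod

variable (k) in
/-- Two nonzero sections of a module with `h⁰ ≤ 1` are proportional. -/
theorem exists_scal_of_h0_le_one {N : X.Modules} (hN : PicF.IsInvertible N) (h1 : h k N 0 ≤ 1)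
    (u v : Coh.structureModule X ⟶ N) (hu : u ≠ 0) (hv : v ≠ 0) :
    ∃ c : k, c ≠ 0 ∧ v = u ≫ scalHom k N c := by
  haveI := isNoetherian_of_proper k X
  haveI := finite_proper k X _ (isCoh_of_inv hN) 0
  haveI : Module.Finite k Γ(N, ⊤) := Module.Finite.equiv (secH0 (k := k) N).symm
  have key : ∀ w : Coh.structureModule X ⟶ N, w = homOf (TMul.val w ⊤) := fun w =>
    TMul.hom_ext_val (by rw [val_homOf, res_self])
  have ht : TMul.val u ⊤ ≠ 0 := fun h0 => hu ((key u).trans (TMul.hom_ext_val (by
    rw [val_homOf, h0, map_zero]; rfl)))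
  haveI : Nontrivial Γ(N, ⊤) := nontrivial_of_ne _ _ ht
  have hone : Module.finrank k Γ(N, ⊤) = 1 :=
    le_antisymm ((finrank_sec (k := k) N).trans_le h1) (Module.finrank_pos)
  obtain ⟨c, hc⟩ := (finrank_eq_one_iff_of_nonzero' _ ht).1 hone (TMul.val v ⊤)
  have he : v = u ≫ scalHom k N c := by
    have h2 := homOf_cst_smul (k := k) N c (TMul.val u ⊤)
    rw [← key u] at h2
    rw [key v, ← hc]
    exact h2
  refine ⟨c, fun h0 => hv ?_, he⟩
  rw [he, h0, map_zero]
  exact comp_zero

variable (k) in
/-- An invertible module times `K` is `K` only if trivial. -/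
theorem iso_one_of_tensor_iso {B K : X.Modules} (hK : PicF.IsInvertible K) (e : CohB1.tensorMod B K ≅ K) :
    Nonempty (B ≅ Coh.structureModule X) := by
  obtain ⟨K', -, ⟨e'⟩⟩ := W7Hull.exists_tensor_inverse hK
  exact ⟨(untw e' B).symm ≪≫ PicGrp.tensorModIso e (Iso.refl K') ≪≫ e'⟩

end Groth.Agent.Higgs
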