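import Groth.Agent.Higgs.Basic

/-!
# Destabilising submodules of pairs
-/

set_option autoImplicit false
set_option linter.style.haveILetI false
set_option linter.unusedSectionVars false
set_option backward.isDefEq.respectTransparency false

universe u

open CategoryTheory CategoryTheory.Limits AlgebraicGeometry TopologicalSpace Opposite
open Groth.Agent.CurveRR Groth.Agent.W7Slope
open Groth.Agent.CohFinite (tmap tmap_comp tmap_zero)

noncomputable section

namespace Groth.Agent.Higgs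

variable {k : Type u} [Field k] {X : Scheme.{u}} [X.Over (Spec (CommRingCat.of k))]
  [IsProper (X ↘ Spec (CommRingCat.of k))] [IsIntegral X]

theorem shortExact_image {A B I : X.Modules} (f : A ⟶ B) (p : A ⟶ I) (q : I ⟶ B) [Mono q] [Epi p] (hfac : p ≫ q = f) :
    ∃ w : kernel.ι f ≫ p = 0, (ShortComplex.mk (kernel.ι f) p w).ShortExact :=
  ⟨by rw [← cancel_mono q, Category.assoc, hfac, kernel.condition, zero_comp],
    { exact := ShortComplex.exact_of_f_is_kernel _ (KernelFork.IsLimit.ofι' _ _ fun {W} g hg =>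
        ⟨kernel.lift f g (by rw [← hfac, ← Category.assoc, show g ≫ p = 0 from hg, zero_comp]),
          kernel.lift_ι _ _ _⟩) }⟩

variable (k) in
/-- No nonzero map of pairs from the maximal destabilising invariant submodule to the quotient by it. -/
theorem hom_coker_eq_zero (hX : RegCurve X) {E E₁ L : X.Modules} (hL : PicF.IsInvertible L) {r r₁ : ℕ}
    (hE : FlatMod.IsFinLocFreeOfRank r E) (φ : E ⟶ CohB1.tensorMod E L) (hr₁ : 0 < r₁)
    (hE₁ : FlatMod.IsFinLocFreeOfRank r₁ E₁) (i₁ : E₁ ⟶ E) [Mono i₁] {χ₁ : E₁ ⟶ CohB1.tensorMod E₁ L}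
    (hχ₁ : χ₁ ≫ tmap i₁ L = i₁ ≫ φ)
    (hmax : ∀ (G : X.Modules) (n : ℕ) (j : G ⟶ E), Mono j → 0 < n → FlatMod.IsFinLocFreeOfRank n G → Inv φ j →
      Curv2.deg k X G n * (r₁ : ℤ) ≤ Curv2.deg k X E₁ r₁ * (n : ℤ))
    (hmax' : ∀ (G : X.Modules) (n : ℕ) (j : G ⟶ E), Mono j → 0 < n → FlatMod.IsFinLocFreeOfRank n G → Inv φ j →
      Curv2.deg k X G n * (r₁ : ℤ) = Curv2.deg k X E₁ r₁ * (n : ℤ) → n ≤ r₁)
    (φ' : cokernel i₁ ⟶ CohB1.tensorMod (cokernel i₁) L)
    (hφ' : cokernel.π i₁ ≫ φ' = φ ≫ tmap (cokernel.π i₁) L)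
    (f : E₁ ⟶ cokernel i₁) (hf : f ≫ φ' = χ₁ ≫ tmap f L) : f = 0 := by
  haveI := isNoetherian_of_proper k X
  obtain ⟨-, hQ, -⟩ := isFinLocFree_coker_of_inv_max k hX hL hE φ hE₁ i₁ ⟨χ₁, hχ₁⟩ fun P ι hι hP hinv =>
    le_of_mul_le_mul_right (hmax P r₁ ι hι hr₁ hP hinv) (by exact_mod_cast hr₁)
  by_contra hne
  obtain ⟨I, p, q, hp, hq, hfac, hI, hK, hrk, -, hd, hpos⟩ := exists_image k hX hE₁ hQ f
  have hKle : Curv2.deg k X (kernel f) (grk (kernel f)) * (r₁ : ℤ) ≤ Curv2.deg k X E₁ r₁ * (grk (kernel f) : ℤ) := by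
    rcases Nat.eq_zero_or_pos (grk (kernel f)) with h0 | h0
    · rw [h0] at hK ⊢
      simp [deg_rank_zero k hK]
    obtain ⟨w, hS⟩ := shortExact_image f p q hfac
    have hinv : Inv χ₁ (kernel.ι f) := by
      refine inv_of_comp_zero hL χ₁ _ p w hS ?_
      haveI := mono_tmap hL q
      rw [← cancel_mono (tmap q L), Category.assoc, Category.assoc, ← tmap_comp, hfac, ← hf,
        kernel.condition_assoc, zero_comp, zero_comp]
    exact hmax _ _ (kernel.ι f ≫ i₁) (mono_comp _ _) h0 hK (hinv.trans hχ₁)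
  have hinvI : Inv φ' q := by
    refine inv_of_comp_zero hL φ' q (cokernel.π q) (cokernel.condition q) { exact := ShortComplex.exact_cokernel q } ?_
    rw [← cancel_epi p, reassoc_of% hfac, ← Category.assoc, hf, Category.assoc, ← tmap_comp, ← hfac, Category.assoc,
      cokernel.condition, comp_zero, tmap_zero, comp_zero, comp_zero]
  obtain ⟨P, ι, hι, hP, hinv, hdP⟩ := exists_preimage_inv k hX hL hE φ hE₁ i₁ φ' hφ' q hinvI hI
  have h1 := hmax P _ ι hι (by omega) hP hinv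
  have hr' : (r₁ : ℤ) = (grk (kernel f) : ℤ) + (grk I : ℤ) := by exact_mod_cast hrk
  rw [hd, hr'] at hKle
  rw [hdP] at h1
  push_cast at h1
  rw [hd, hr'] at h1
  have h2 := hmax' P _ ι hι (by omega) hP hinv (by
    rw [hdP]
    push_cast
    rw [hd, hr']
    linarith)
  have := hpos hne
  omega

variable (k) in
/-- For a twist of degree zero the maximal destabilising submodule is invariant. -/
theorem inv_of_max (hX : RegCurve X) {E E₁ L : X.Modules} (hL : PicF.IsInvertible L)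
    (hL0 : Curv2.deg k X L 1 = 0) {r r₁ : ℕ} (hE : FlatMod.IsFinLocFreeOfRank r E)
    (φ : E ⟶ CohB1.tensorMod E L) (hr₁ : 0 < r₁) (hE₁ : FlatMod.IsFinLocFreeOfRank r₁ E₁) (i₁ : E₁ ⟶ E) [Mono i₁]
    (hmax : ∀ (G : X.Modules) (n : ℕ) (j : G ⟶ E), Mono j → 0 < n → FlatMod.IsFinLocFreeOfRank n G →
      Curv2.deg k X G n * (r₁ : ℤ) ≤ Curv2.deg k X E₁ r₁ * (n : ℤ))
    (hmax' : ∀ (G : X.Modules) (n : ℕ) (j : G ⟶ E), Mono j → 0 < n → FlatMod.IsFinLocFreeOfRank n G →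
      Curv2.deg k X G n * (r₁ : ℤ) = Curv2.deg k X E₁ r₁ * (n : ℤ) → n ≤ r₁) :
    Inv φ i₁ := by
  haveI := isNoetherian_of_proper k X
  refine inv_of_comp_zero hL φ i₁ (cokernel.π i₁) (cokernel.condition i₁) { exact := ShortComplex.exact_cokernel i₁ } ?_
  obtain ⟨m, hQ, -, -⟩ := isFinLocFree_coker_of_max k hX hE hE₁ i₁ fun P ι hι hP =>
    le_of_mul_le_mul_right (hmax P r₁ ι hι hr₁ hP) (by exact_mod_cast hr₁)
  generalize i₁ ≫ φ ≫ tmap (cokernel.π i₁) L = f
  by_contra hne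
  obtain ⟨I, p, q, hp, hq, hfac, hI, hK, hrk, -, hd, hpos⟩ := exists_image k hX hE₁ (rank_tensor_inv hQ hL) f
  obtain ⟨L', hL', ⟨e⟩⟩ := W7Hull.exists_tensor_inverse hL
  let e' := TMul.commIso L' L ≪≫ e
  haveI := mono_tmap hL' q
  let j : CohB1.tensorMod I L' ⟶ cokernel i₁ := tmap q L' ≫ (untw e (cokernel i₁)).hom
  haveI : Mono j := mono_comp _ _
  have hG := rank_tensor_inv hI hL'
  have hd2 : Curv2.deg k X I (grk I) = Curv2.deg k X (CohB1.tensorMod I L') (grk I) := by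
    have h := deg_twist (k := k) hX.dim hG hL
    rw [hL0, mul_zero, add_zero] at h
    rw [← h]
    exact deg_iso (untw e' I).symm _
  obtain ⟨P, ι, hι, hP, hdP⟩ := exists_preimage_coker k hX hE hE₁ i₁ j hG
  have hKle : Curv2.deg k X (kernel f) (grk (kernel f)) * (r₁ : ℤ) ≤ Curv2.deg k X E₁ r₁ * (grk (kernel f) : ℤ) := by
    rcases Nat.eq_zero_or_pos (grk (kernel f)) with h0 | h0
    · rw [h0] at hK ⊢
      simp [deg_rank_zero k hK]
    exact hmax _ _ (kernel.ι f ≫ i₁) (mono_comp _ _) h0 hK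
  have h1 := hmax P _ ι hι (by omega) hP
  have hr' : (r₁ : ℤ) = (grk (kernel f) : ℤ) + (grk I : ℤ) := by exact_mod_cast hrk
  rw [hd, hr'] at hKle
  rw [hdP, ← hd2] at h1
  push_cast at h1
  rw [hd, hr'] at h1
  have h2 := hmax' P _ ι hι (by omega) hP (by
    rw [hdP, ← hd2]
    push_cast
    rw [hd, hr']
    linarith)
  have := hpos hne
  omega

end Groth.Agent.Higgs
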