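import Groth.Agent.W7Slope.Max
import Groth.Agent.W7Slope.Twist

/-!
# Twisted pairs on curves: invariant submodules, saturation and quotients
-/

set_option autoImplicit false
set_option linter.style.haveILetI false
set_option linter.unusedSectionVars false
set_option backward.isDefEq.respectTransparency false

universe u

open CategoryTheory CategoryTheory.Limits AlgebraicGeometry TopologicalSpace Opposite
open Groth.Agent.CurveRR Groth.Agent.W7Slope
open Groth.Agent.CohFinite (tmap tmap_comp tmap_zero)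

noncomputable section

namespace Groth.Agent.Higgs

variable {k : Type u} [Field k] {X : Scheme.{u}} [X.Over (Spec (CommRingCat.of k))]
  [IsProper (X ↘ Spec (CommRingCat.of k))] [IsIntegral X]

/-- A submodule to which a twisted endomorphism restricts. -/
def Inv {E L : X.Modules} (φ : E ⟶ CohB1.tensorMod E L) {G : X.Modules} (j : G ⟶ E) : Prop :=
  ∃ χ : G ⟶ CohB1.tensorMod G L, χ ≫ tmap j L = j ≫ φ

/-- The subobject of a short exact sequence is invariant when the field vanishes from it to the quotient. -/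
theorem inv_of_comp_zero {L : X.Modules} (hL : PicF.IsInvertible L) {A B C : X.Modules} (φ : B ⟶ CohB1.tensorMod B L)
    (i : A ⟶ B) (p : B ⟶ C) (w : i ≫ p = 0) (hS : (ShortComplex.mk i p w).ShortExact)
    (h : i ≫ φ ≫ tmap p L = 0) : Inv φ i := by
  have hS' := CohFinite.shortExact_tmap hL hS
  haveI := hS'.mono_f
  have h' : (i ≫ φ) ≫ tmap p L = 0 := by rw [Category.assoc]; exact h
  exact ⟨hS'.exact.lift (i ≫ φ) h', hS'.exact.lift_f _ h'⟩

/-- An invariant submodule of an invariant submodule is invariant. -/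
theorem Inv.trans {E L G H : X.Modules} {φ : E ⟶ CohB1.tensorMod E L} {j : G ⟶ E} {χ : G ⟶ CohB1.tensorMod G L}
    (hχ : χ ≫ tmap j L = j ≫ φ) {i : H ⟶ G} (hi : Inv χ i) : Inv φ (i ≫ j) := by
  obtain ⟨ψ, hψ⟩ := hi
  exact ⟨ψ, by rw [tmap_comp, ← Category.assoc, hψ, Category.assoc, hχ, ← Category.assoc]⟩

variable (k) in
include k in
/-- Invariance passes to the saturation. -/
theorem inv_saturation (hX : RegCurve X) {E L F G' Q : X.Modules} (hL : PicF.IsInvertible L)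
    (φ : E ⟶ CohB1.tensorMod E L) (i : F ⟶ E) (hi : Inv φ i) (i' : G' ⟶ E) (l : F ⟶ G') [Mono l] (p : E ⟶ Q)
    (w : i' ≫ p = 0) (hS : (ShortComplex.mk i' p w).ShortExact) (hl : l ≫ i' = i)
    (hG' : FlatMod.IsFinLocFreeOfRank (grk F) G') (hQ : FlatMod.IsFinLocFreeOfRank (grk Q) Q) :
    Inv φ i' := by
  haveI := isNoetherian_of_proper k X
  refine inv_of_comp_zero hL φ i' p w hS ?_
  have hf0 : l ≫ i' ≫ φ ≫ tmap p L = 0 := by
    obtain ⟨χ, hχ⟩ := hi
    rw [← Category.assoc, hl, ← Category.assoc, ← hχ, ← hl, Category.assoc, ← tmap_comp, Category.assoc, w,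
      comp_zero, tmap_zero, comp_zero]
  generalize hf : i' ≫ φ ≫ tmap p L = f at hf0 ⊢
  by_contra hne
  obtain ⟨I, -, -, -, -, -, -, hK, hr, -, -, hpos⟩ := exists_image k hX hG' (rank_tensor_inv hQ hL) f
  have hlift : Mono (kernel.lift f l hf0) := mono_of_mono_fac (kernel.lift_ι _ _ _)
  have := grk_le_of_mono k (kernel.lift f l hf0) (isCoh_of_rank hK)
  have := hpos hne
  omega

variable (k) in
/-- The preimage of a submodule of a quotient of a pair. -/
theorem exists_preimage_inv (hX : RegCurve X) {E L F G : X.Modules} (hL : PicF.IsInvertible L) {r s n : ℕ}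
    (hE : FlatMod.IsFinLocFreeOfRank r E) (φ : E ⟶ CohB1.tensorMod E L) (hF : FlatMod.IsFinLocFreeOfRank s F)
    (i : F ⟶ E) [Mono i] (φ' : cokernel i ⟶ CohB1.tensorMod (cokernel i) L)
    (hφ' : cokernel.π i ≫ φ' = φ ≫ tmap (cokernel.π i) L) (j : G ⟶ cokernel i) [Mono j]
    (hj : Inv φ' j) (hG : FlatMod.IsFinLocFreeOfRank n G) :
    ∃ (P : X.Modules) (ι : P ⟶ E), Mono ι ∧ FlatMod.IsFinLocFreeOfRank (s + n) P ∧ Inv φ ι ∧
      Curv2.deg k X P (s + n) = Curv2.deg k X F s + Curv2.deg k X G n := by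
  haveI := isNoetherian_of_proper k X
  have hEc := isCoh_of_rank hE
  have hC := isCoh_cokernel k (isCoh_of_rank hF) hEc i
  have hC' := isCoh_cokernel k (isCoh_of_rank hG) hC j
  let σ := cokernel.π i ≫ cokernel.π j
  haveI : Epi σ := epi_comp _ _
  have hP := isCoh_kernel k hEc hC' σ
  have hPl := isFinLocFree_sub k hX (kernel.ι σ) hP hE
  have hSi : (ShortComplex.mk i (cokernel.π i) (cokernel.condition i)).ShortExact :=
    { exact := ShortComplex.exact_cokernel i }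
  have hSj : (ShortComplex.mk j (cokernel.π j) (cokernel.condition j)).ShortExact :=
    { exact := ShortComplex.exact_cokernel j }
  have hinv : Inv φ (kernel.ι σ) := by
    refine inv_of_comp_zero hL φ _ σ (kernel.condition σ) (shortExact_ker σ) ?_
    obtain ⟨χ, hχ⟩ := hj
    have hu : (kernel.ι σ ≫ cokernel.π i) ≫ cokernel.π j = 0 := by rw [Category.assoc]; exact kernel.condition σ
    calc kernel.ι σ ≫ φ ≫ tmap (cokernel.π i ≫ cokernel.π j) L
        = (kernel.ι σ ≫ cokernel.π i) ≫ φ' ≫ tmap (cokernel.π j) L := by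
          simp only [Category.assoc, tmap_comp, reassoc_of% hφ']
      _ = Abelian.monoLift j _ hu ≫ χ ≫ tmap (j ≫ cokernel.π j) L := by
          conv_lhs => rw [← Abelian.monoLift_comp j _ hu]
          simp only [Category.assoc, tmap_comp, reassoc_of% hχ]
      _ = 0 := by rw [cokernel.condition, tmap_zero, comp_zero, comp_zero]
  have d1 := cdeg_add (k := k) hSi (isCoh_of_rank hF) hEc hC
  have d2 := cdeg_add (k := k) hSj (isCoh_of_rank hG) hC hC'
  have d3 := cdeg_add (k := k) (shortExact_ker σ) hP hEc hC'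
  have g1 := grk_add hSi hEc
  have g2 := grk_add hSj hC
  have g3 := grk_add (shortExact_ker σ) hEc
  change cdeg k E = cdeg k F + cdeg k (cokernel i) at d1
  change cdeg k (cokernel i) = cdeg k G + cdeg k (cokernel j) at d2
  change cdeg k E = cdeg k (kernel σ) + cdeg k (cokernel j) at d3
  change grk E = grk F + grk (cokernel i) at g1
  change grk (cokernel i) = grk G + grk (cokernel j) at g2
  change grk E = grk (kernel σ) + grk (cokernel j) at g3
  rw [grk_of_rank hF] at g1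
  rw [grk_of_rank hG] at g2
  rw [show grk (kernel σ) = s + n by omega] at hPl
  refine ⟨kernel σ, kernel.ι σ, inferInstance, hPl, hinv, ?_⟩
  rw [deg_eq hPl, deg_eq hF, deg_eq hG]
  omega

variable (k) in
/-- An invariant submodule which is of maximal degree among the invariant ones of its rank has locally free quotient. -/
theorem isFinLocFree_coker_of_inv_max (hX : RegCurve X) {E L F : X.Modules} (hL : PicF.IsInvertible L) {r s : ℕ}
    (hE : FlatMod.IsFinLocFreeOfRank r E) (φ : E ⟶ CohB1.tensorMod E L) (hF : FlatMod.IsFinLocFreeOfRank s F)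
    (i : F ⟶ E) [Mono i] (hi : Inv φ i)
    (hmax : ∀ (P : X.Modules) (ι : P ⟶ E), Mono ι → FlatMod.IsFinLocFreeOfRank s P → Inv φ ι →
      Curv2.deg k X P s ≤ Curv2.deg k X F s) :
    s ≤ r ∧ FlatMod.IsFinLocFreeOfRank (r - s) (cokernel i) ∧
      Curv2.deg k X E r = Curv2.deg k X F s + Curv2.deg k X (cokernel i) (r - s) := by
  haveI := isNoetherian_of_proper k X
  obtain ⟨G', Q, i', l, p, w, hS, hl, hlm, hG', hQ, hrq, hle, heq, hdE⟩ :=
    exists_saturation k hX hE (isCoh_of_rank hF) i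
  haveI : Mono i' := hS.mono_f
  have hinv := inv_saturation k hX hL φ i hi i' l p w hS hl hG' hQ
  rw [grk_of_rank hF] at hG' hrq
  have hb := hmax G' i' inferInstance hG' hinv
  rw [deg_eq hG', deg_eq hF] at hb
  haveI : IsIso l := heq (le_antisymm hle hb)
  let e : cokernel i' ≅ Q :=
    IsColimit.coconePointUniqueUpToIso (cokernelIsCokernel i') hS.gIsCokernel
  let e' : cokernel i ≅ Q := cokernelIsoOfEq hl.symm ≪≫ cokernelEpiComp l i' ≪≫ e
  have hq : FlatMod.IsFinLocFreeOfRank (r - s) (cokernel i) := by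
    rw [show r - s = grk Q by omega]
    exact rank_iso e'.symm hQ
  refine ⟨by omega, hq, ?_⟩
  rw [deg_eq hq, deg_eq hF, hdE, cdeg_iso (k := k) e', le_antisymm hle hb]

variable (k) in
/-- An invariant submodule of the same slope in a semistable pair: locally free quotient. -/
theorem coker_of_slope_eq (hX : RegCurve X) {E L F : X.Modules} (hL : PicF.IsInvertible L) {r s : ℕ} (hr : 0 < r)
    (hE : FlatMod.IsFinLocFreeOfRank r E) (φ : E ⟶ CohB1.tensorMod E L)
    (hss : ∀ (G : X.Modules) (n : ℕ) (j : G ⟶ E), Mono j → 0 < n → FlatMod.IsFinLocFreeOfRank n G → Inv φ j →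
      Curv2.deg k X G n * (r : ℤ) ≤ Curv2.deg k X E r * (n : ℤ))
    (hF : FlatMod.IsFinLocFreeOfRank s F) (i : F ⟶ E) [Mono i] (hi : Inv φ i)
    (hslope : Curv2.deg k X F s * (r : ℤ) = Curv2.deg k X E r * (s : ℤ)) :
    s ≤ r ∧ FlatMod.IsFinLocFreeOfRank (r - s) (cokernel i) ∧
      Curv2.deg k X E r = Curv2.deg k X F s + Curv2.deg k X (cokernel i) (r - s) := by
  refine isFinLocFree_coker_of_inv_max k hX hL hE φ hF i hi fun P ι hι hP hinv => ?_
  rcases Nat.eq_zero_or_pos s with rfl | hs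
  · rw [deg_rank_zero k hP, deg_rank_zero k hF]
  have := hss P s ι hι hs hP hinv
  rw [← hslope] at this
  exact le_of_mul_le_mul_right this (by exact_mod_cast hr)

variable (k) in
/-- An invariant submodule of the same slope in a semistable pair is semistable. -/
theorem sub_ss {E L F : X.Modules} {r s : ℕ} (hr : 0 < r) (φ : E ⟶ CohB1.tensorMod E L)
    (hss : ∀ (G : X.Modules) (n : ℕ) (j : G ⟶ E), Mono j → 0 < n → FlatMod.IsFinLocFreeOfRank n G → Inv φ j →
      Curv2.deg k X G n * (r : ℤ) ≤ Curv2.deg k X E r * (n : ℤ))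
    (i : F ⟶ E) [Mono i] {ψ : F ⟶ CohB1.tensorMod F L} (hψ : ψ ≫ tmap i L = i ≫ φ)
    (hslope : Curv2.deg k X F s * (r : ℤ) = Curv2.deg k X E r * (s : ℤ))
    {G : X.Modules} {n : ℕ} (j : G ⟶ F) [Mono j] (hn : 0 < n) (hG : FlatMod.IsFinLocFreeOfRank n G)
    (hj : Inv ψ j) : Curv2.deg k X G n * (s : ℤ) ≤ Curv2.deg k X F s * (n : ℤ) := by
  have h := hss G n (j ≫ i) (mono_comp _ _) hn hG (hj.trans hψ)
  refine le_of_mul_le_mul_right ?_ (show (0 : ℤ) < r by exact_mod_cast hr)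
  linear_combination (s : ℤ) * h - (n : ℤ) * hslope

variable (k) in
/-- The quotient by an invariant submodule of the same slope is semistable. -/
theorem quot_ss (hX : RegCurve X) {E L F : X.Modules} (hL : PicF.IsInvertible L) {r s : ℕ} (hr : 0 < r)
    (hE : FlatMod.IsFinLocFreeOfRank r E) (φ : E ⟶ CohB1.tensorMod E L)
    (hss : ∀ (G : X.Modules) (n : ℕ) (j : G ⟶ E), Mono j → 0 < n → FlatMod.IsFinLocFreeOfRank n G → Inv φ j →
      Curv2.deg k X G n * (r : ℤ) ≤ Curv2.deg k X E r * (n : ℤ))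
    (hF : FlatMod.IsFinLocFreeOfRank s F) (i : F ⟶ E) [Mono i] (hi : Inv φ i)
    (hslope : Curv2.deg k X F s * (r : ℤ) = Curv2.deg k X E r * (s : ℤ))
    (φ' : cokernel i ⟶ CohB1.tensorMod (cokernel i) L)
    (hφ' : cokernel.π i ≫ φ' = φ ≫ tmap (cokernel.π i) L)
    {G : X.Modules} {n : ℕ} (j : G ⟶ cokernel i) [Mono j] (hn : 0 < n) (hG : FlatMod.IsFinLocFreeOfRank n G)
    (hj : Inv φ' j) :
    Curv2.deg k X G n * ((r - s : ℕ) : ℤ) ≤ Curv2.deg k X (cokernel i) (r - s) * (n : ℤ) := by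
  obtain ⟨hsr, -, hd⟩ := coker_of_slope_eq k hX hL hr hE φ hss hF i hi hslope
  obtain ⟨P, ι, hι, hP, hinv, hdP⟩ := exists_preimage_inv k hX hL hE φ hF i φ' hφ' j hj hG
  have h := hss P (s + n) ι hι (by omega) hP hinv
  rw [hdP] at h
  push_cast [hsr] at h ⊢
  rw [hd] at h hslope
  have h0 : (0 : ℤ) ≤ (r : ℤ) - s := by omega
  refine le_of_mul_le_mul_right ?_ (show (0 : ℤ) < r by exact_mod_cast hr)
  linear_combination ((r : ℤ) - s) * h + ((n : ℤ) - ((r : ℤ) - s)) * hslope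

variable (k) in
/-- A submodule of maximal slope, of maximal rank among those, within a class containing the whole module. -/
theorem exists_max_slope_of (hX : RegCurve X) {E : X.Modules} {r : ℕ} (hr : 0 < r)
    (hE : FlatMod.IsFinLocFreeOfRank r E) (Φ : ∀ G : X.Modules, (G ⟶ E) → Prop) (hΦ : Φ E (𝟙 E)) :
    ∃ (E₁ : X.Modules) (r₁ : ℕ) (i₁ : E₁ ⟶ E), Mono i₁ ∧ 0 < r₁ ∧ FlatMod.IsFinLocFreeOfRank r₁ E₁ ∧ Φ E₁ i₁ ∧
      (∀ (G : X.Modules) (r' : ℕ) (j : G ⟶ E), Mono j → 0 < r' → FlatMod.IsFinLocFreeOfRank r' G → Φ G j →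
        Curv2.deg k X G r' * (r₁ : ℤ) ≤ Curv2.deg k X E₁ r₁ * (r' : ℤ)) ∧
      (∀ (G : X.Modules) (r' : ℕ) (j : G ⟶ E), Mono j → 0 < r' → FlatMod.IsFinLocFreeOfRank r' G → Φ G j →
        Curv2.deg k X G r' * (r₁ : ℤ) = Curv2.deg k X E₁ r₁ * (r' : ℤ) → r' ≤ r₁) := by
  haveI := isNoetherian_of_proper k X
  classical
  let P : ℕ → ℤ → Prop := fun n d => ∃ (G : X.Modules) (j : G ⟶ E), Mono j ∧ Φ G j ∧
    FlatMod.IsFinLocFreeOfRank n G ∧ Curv2.deg k X G n = d
  have hbd : ∀ n, ∃ b : ℤ, ∀ d, P n d → d ≤ b := fun n =>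
    ⟨(CurveRR.h k E 0 : ℤ) - n * Curv2.euler k X (Coh.structureModule X), fun d ⟨G, j, hj, _, hG, hd⟩ => by
      have := cdeg_le_bound k hX.dim (isCoh_of_rank hE) j
      rw [grk_of_rank hG, ← deg_eq hG, hd] at this
      exact this⟩
  let R : Finset ℕ := (Finset.Icc 1 r).filter fun n => ∃ d, P n d
  have hmax : ∀ n ∈ R, ∃ d, P n d ∧ ∀ d', P n d' → d' ≤ d := fun n hn =>
    Int.exists_greatest_of_bdd (hbd n) (Finset.mem_filter.1 hn).2
  choose! D hD hD' using hmax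
  have hrR : r ∈ R :=
    Finset.mem_filter.2 ⟨Finset.mem_Icc.2 ⟨hr, le_rfl⟩, _, E, 𝟙 E, inferInstance, hΦ, hE, rfl⟩
  obtain ⟨n₀, hn₀, hmax₀⟩ := R.exists_max_image (fun n => (D n : ℚ) / n) ⟨r, hrR⟩
  obtain ⟨r₁, hr₁, hmax₁⟩ := (R.filter fun n => (D n : ℚ) / n = (D n₀ : ℚ) / n₀).exists_max_image id
    ⟨n₀, Finset.mem_filter.2 ⟨hn₀, rfl⟩⟩
  obtain ⟨hr₁R, hr₁eq⟩ := Finset.mem_filter.1 hr₁
  have hr₁pos : 0 < r₁ := (Finset.mem_Icc.1 (Finset.mem_filter.1 hr₁R).1).1
  obtain ⟨E₁, i₁, hi₁, hΦ₁, hE₁, hdE₁⟩ := hD r₁ hr₁R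
  have key : ∀ (G : X.Modules) (n : ℕ) (j : G ⟶ E), Mono j → 0 < n → FlatMod.IsFinLocFreeOfRank n G → Φ G j →
      n ∈ R ∧ Curv2.deg k X G n ≤ D n ∧ D n * (r₁ : ℤ) ≤ D r₁ * (n : ℤ) := by
    intro G n j hj hn hG hΦG
    have hle := grk_le_of_mono k j (isCoh_of_rank hE)
    rw [grk_of_rank hG, grk_of_rank hE] at hle
    have hnR : n ∈ R := Finset.mem_filter.2 ⟨Finset.mem_Icc.2 ⟨hn, hle⟩, _, G, j, hj, hΦG, hG, rfl⟩
    refine ⟨hnR, hD' n hnR _ ⟨G, j, hj, hΦG, hG, rfl⟩, ?_⟩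
    have h : (D n : ℚ) / n ≤ (D r₁ : ℚ) / r₁ := by rw [hr₁eq]; exact hmax₀ n hnR
    exact_mod_cast (div_le_div_iff₀ (by exact_mod_cast hn) (by exact_mod_cast hr₁pos)).1 h
  refine ⟨E₁, r₁, i₁, hi₁, hr₁pos, hE₁, hΦ₁, fun G n j hj hn hG hΦG => ?_, fun G n j hj hn hG hΦG he => ?_⟩
  · obtain ⟨-, h1, h2⟩ := key G n j hj hn hG hΦG
    rw [hdE₁]
    exact (mul_le_mul_of_nonneg_right h1 (Int.natCast_nonneg r₁)).trans h2
  obtain ⟨hnR, h1, h2⟩ := key G n j hj hn hG hΦG
  rw [hdE₁] at he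
  have h3 : D n * (r₁ : ℤ) = D r₁ * (n : ℤ) :=
    h2.antisymm (he ▸ mul_le_mul_of_nonneg_right h1 (Int.natCast_nonneg r₁))
  refine hmax₁ n (Finset.mem_filter.2 ⟨hnR, ?_⟩)
  rw [← hr₁eq, div_eq_div_iff (by exact_mod_cast hn.ne') (by exact_mod_cast hr₁pos.ne')]
  exact_mod_cast h3

end Groth.Agent.Higgs
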